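import Cfsg.Agent.Spor.C3N.D0

set_option autoImplicit false
set_option maxRecDepth 100000000
set_option Elab.async false

namespace Cfsg.Agent.Spor.C3N

theorem ok0 : Net.okb 14 n0 = true := by decide +kernel

theorem ok1 : Net.okb 14 n1 = true := by decide +kernel

theorem ok2 : Net.okb 14 n2 = true := by decide +kernel

theorem rel0 : T.rel 14 [1, 1] 0 14 = true := by decide +kernel

theorem rel1 : T.rel 14 [2, 2] 0 14 = true := by decide +kernel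

theorem rel2 : T.rel 14 [3, 3] 0 14 = true := by decide +kernel

theorem rel3 : T.rel 14 [2, 1, 2, 1, 2, 1, 2, 1, 2, 1, 2, 1] 0 14 = true := by decide +kernel

theorem rel4 : T.rel 14 [3, 1, 3, 1, 3, 1, 3, 1, 3, 1, 3, 1] 0 14 = true := by decide +kernel

theorem rel5 : T.rel 14 [3, 2, 3, 2, 3, 2, 3, 2] 0 14 = true := by decide +kernel

theorem rel6 : T.rel 14 [1, 2, 1, 2, 1, 2, 3, 2, 1, 3, 2, 3, 2, 1, 2, 1, 3, 1, 3] 0 14 = true := by decide +kernel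

theorem rel7 : T.rel 14 [1, 2, 1, 2, 3, 1, 2, 1, 3, 1, 2, 1, 2, 3, 1, 2, 1, 3] 0 14 = true := by decide +kernel

theorem hcov : T.treeCov (ones 9216) L 1 = true := by decide +kernel

theorem hg : lall (fun z => band (memL L z) (band (sub (ones 9216) (T.let z).cl) (T.closed (ones 9216) z))) gs = true := by decide +kernel

theorem rot1_1 : T.rot 1 [1] (sel (ones 9216) ip1 1) = true := by decide +kernel

theorem rot1_1r : band (Rule.ok (2 * 3) EX RL ⟨1 :: [1], [], 5, false⟩) (lall (memL L) [1]) = true := by decide +kernel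

theorem rot1_2 : T.rot 1 [2, 1, 2, 1, 2, 1, 2, 1, 2, 1, 2] (sel (ones 9216) ip1 2) = true := by decide +kernel

theorem rot1_2r : band (Rule.ok (2 * 3) EX RL ⟨1 :: [2, 1, 2, 1, 2, 1, 2, 1, 2, 1, 2], [], 0, false⟩) (lall (memL L) [2, 1, 2, 1, 2, 1, 2, 1, 2, 1, 2]) = true := by decide +kernel

theorem rot1_3 : T.rot 1 [3, 1, 3, 1, 3, 1, 3, 1, 3, 1, 3] (sel (ones 9216) ip1 3) = true := by decide +kernel

theorem rot1_3r : band (Rule.ok (2 * 3) EX RL ⟨1 :: [3, 1, 3, 1, 3, 1, 3, 1, 3, 1, 3], [], 1, false⟩) (lall (memL L) [3, 1, 3, 1, 3, 1, 3, 1, 3, 1, 3]) = true := by decide +kernel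

theorem rot1_4 : T.rot 1 [2, 1, 2, 3, 1, 2, 1, 3, 1, 2, 1, 2, 3, 1, 2, 1, 3] (sel (ones 9216) ip1 4) = true := by decide +kernel

theorem rot1_4r : band (Rule.ok (2 * 3) EX RL ⟨1 :: [2, 1, 2, 3, 1, 2, 1, 3, 1, 2, 1, 2, 3, 1, 2, 1, 3], [], 4, true⟩) (lall (memL L) [2, 1, 2, 3, 1, 2, 1, 3, 1, 2, 1, 2, 3, 1, 2, 1, 3]) = true := by decide +kernel

theorem rot1_5 : T.rot 1 [2, 3, 1, 2, 1, 3, 1, 2, 1, 2, 3, 1, 2, 1, 3, 1, 2] (sel (ones 9216) ip1 5) = true := by decide +kernel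

theorem rot1_5r : band (Rule.ok (2 * 3) EX RL ⟨1 :: [2, 3, 1, 2, 1, 3, 1, 2, 1, 2, 3, 1, 2, 1, 3, 1, 2], [0, 2], 4, true⟩) (lall (memL L) [2, 3, 1, 2, 1, 3, 1, 2, 1, 2, 3, 1, 2, 1, 3, 1, 2]) = true := by decide +kernel

theorem rot1_6 : T.rot 1 [2, 1, 3, 1, 2, 1, 2, 3, 1, 2, 1, 3, 1, 2, 1, 2, 3] (sel (ones 9216) ip1 6) = true := by decide +kernel

theorem rot1_6r : band (Rule.ok (2 * 3) EX RL ⟨1 :: [2, 1, 3, 1, 2, 1, 2, 3, 1, 2, 1, 3, 1, 2, 1, 2, 3], [4, 0, 2, 0], 4, true⟩) (lall (memL L) [2, 1, 3, 1, 2, 1, 2, 3, 1, 2, 1, 3, 1, 2, 1, 2, 3]) = true := by decide +kernel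

theorem rot1_7 : T.rot 1 [3, 1, 2, 1, 2, 3, 1, 2, 1, 3, 1, 2, 1, 2, 3, 1, 2] (sel (ones 9216) ip1 7) = true := by decide +kernel

theorem rot1_7r : band (Rule.ok (2 * 3) EX RL ⟨1 :: [3, 1, 2, 1, 2, 3, 1, 2, 1, 3, 1, 2, 1, 2, 3, 1, 2], [4, 0], 4, true⟩) (lall (memL L) [3, 1, 2, 1, 2, 3, 1, 2, 1, 3, 1, 2, 1, 2, 3, 1, 2]) = true := by decide +kernel

theorem rot1_8 : T.rot 1 [2, 1, 3, 2, 1, 2, 1, 3, 1, 2, 1, 3, 2, 1, 2, 1, 3] (sel (ones 9216) ip1 8) = true := by decide +kernel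

theorem rot1_8r : band (Rule.ok (2 * 3) EX RL ⟨1 :: [2, 1, 3, 2, 1, 2, 1, 3, 1, 2, 1, 3, 2, 1, 2, 1, 3], [4], 4, false⟩) (lall (memL L) [2, 1, 3, 2, 1, 2, 1, 3, 1, 2, 1, 3, 2, 1, 2, 1, 3]) = true := by decide +kernel

theorem rot1_9 : T.rot 1 [3, 2, 1, 2, 1, 3, 1, 2, 1, 3, 2, 1, 2, 1, 3, 1, 2] (sel (ones 9216) ip1 9) = true := by decide +kernel

theorem rot1_9r : band (Rule.ok (2 * 3) EX RL ⟨1 :: [3, 2, 1, 2, 1, 3, 1, 2, 1, 3, 2, 1, 2, 1, 3, 1, 2], [4, 0, 2], 4, false⟩) (lall (memL L) [3, 2, 1, 2, 1, 3, 1, 2, 1, 3, 2, 1, 2, 1, 3, 1, 2]) = true := by decide +kernel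

theorem rot1_10 : T.rot 1 [2, 1, 3, 1, 2, 1, 3, 2, 1, 2, 1, 3, 1, 2, 1, 3, 2] (sel (ones 9216) ip1 10) = true := by decide +kernel

theorem rot1_10r : band (Rule.ok (2 * 3) EX RL ⟨1 :: [2, 1, 3, 1, 2, 1, 3, 2, 1, 2, 1, 3, 1, 2, 1, 3, 2], [0, 2, 0], 4, false⟩) (lall (memL L) [2, 1, 3, 1, 2, 1, 3, 2, 1, 2, 1, 3, 1, 2, 1, 3, 2]) = true := by decide +kernel

theorem rot1_11 : T.rot 1 [3, 1, 2, 1, 3, 2, 1, 2, 1, 3, 1, 2, 1, 3, 2, 1, 2] (sel (ones 9216) ip1 11) = true := by decide +kernel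

theorem rot1_11r : band (Rule.ok (2 * 3) EX RL ⟨1 :: [3, 1, 2, 1, 3, 2, 1, 2, 1, 3, 1, 2, 1, 3, 2, 1, 2], [0], 4, false⟩) (lall (memL L) [3, 1, 2, 1, 3, 2, 1, 2, 1, 3, 1, 2, 1, 3, 2, 1, 2]) = true := by decide +kernel

theorem rot1_12 : T.rot 1 [2, 1, 2, 1, 2, 3, 2, 1, 3, 2, 3, 2, 1, 2, 1, 3, 1, 3] (sel (ones 9216) ip1 12) = true := by decide +kernel

theorem rot1_12r : band (Rule.ok (2 * 3) EX RL ⟨1 :: [2, 1, 2, 1, 2, 3, 2, 1, 3, 2, 3, 2, 1, 2, 1, 3, 1, 3], [], 3, true⟩) (lall (memL L) [2, 1, 2, 1, 2, 3, 2, 1, 3, 2, 3, 2, 1, 2, 1, 3, 1, 3]) = true := by decide +kernel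

theorem rot1_13 : T.rot 1 [2, 1, 2, 3, 2, 1, 3, 2, 3, 2, 1, 2, 1, 3, 1, 3, 1, 2] (sel (ones 9216) ip1 13) = true := by decide +kernel

theorem rot1_13r : band (Rule.ok (2 * 3) EX RL ⟨1 :: [2, 1, 2, 3, 2, 1, 3, 2, 3, 2, 1, 2, 1, 3, 1, 3, 1, 2], [0, 2], 3, true⟩) (lall (memL L) [2, 1, 2, 3, 2, 1, 3, 2, 3, 2, 1, 2, 1, 3, 1, 3, 1, 2]) = true := by decide +kernel

theorem rot1_14 : T.rot 1 [2, 3, 2, 1, 3, 2, 3, 2, 1, 2, 1, 3, 1, 3, 1, 2, 1, 2] (sel (ones 9216) ip1 14) = true := by decide +kernel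

theorem rot1_14r : band (Rule.ok (2 * 3) EX RL ⟨1 :: [2, 3, 2, 1, 3, 2, 3, 2, 1, 2, 1, 3, 1, 3, 1, 2, 1, 2], [0, 2, 0, 2], 3, true⟩) (lall (memL L) [2, 3, 2, 1, 3, 2, 3, 2, 1, 2, 1, 3, 1, 3, 1, 2, 1, 2]) = true := by decide +kernel

theorem rot1_15 : T.rot 1 [3, 2, 3, 2, 1, 2, 1, 3, 1, 3, 1, 2, 1, 2, 1, 2, 3, 2] (sel (ones 9216) ip1 15) = true := by decide +kernel

theorem rot1_15r : band (Rule.ok (2 * 3) EX RL ⟨1 :: [3, 2, 3, 2, 1, 2, 1, 3, 1, 3, 1, 2, 1, 2, 1, 2, 3, 2], [0, 2, 0, 2, 0, 2, 4, 2], 3, true⟩) (lall (memL L) [3, 2, 3, 2, 1, 2, 1, 3, 1, 3, 1, 2, 1, 2, 1, 2, 3, 2]) = true := by decide +kernel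

theorem rot1_16 : T.rot 1 [2, 1, 3, 1, 3, 1, 2, 1, 2, 1, 2, 3, 2, 1, 3, 2, 3, 2] (sel (ones 9216) ip1 16) = true := by decide +kernel

theorem rot1_16r : band (Rule.ok (2 * 3) EX RL ⟨1 :: [2, 1, 3, 1, 3, 1, 2, 1, 2, 1, 2, 3, 2, 1, 3, 2, 3, 2], [4, 0, 4, 0, 2, 0], 3, true⟩) (lall (memL L) [2, 1, 3, 1, 3, 1, 2, 1, 2, 1, 2, 3, 2, 1, 3, 2, 3, 2]) = true := by decide +kernel

theorem rot1_17 : T.rot 1 [3, 1, 3, 1, 2, 1, 2, 1, 2, 3, 2, 1, 3, 2, 3, 2, 1, 2] (sel (ones 9216) ip1 17) = true := by decide +kernel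

theorem rot1_17r : band (Rule.ok (2 * 3) EX RL ⟨1 :: [3, 1, 3, 1, 2, 1, 2, 1, 2, 3, 2, 1, 3, 2, 3, 2, 1, 2], [4, 0, 4, 0], 3, true⟩) (lall (memL L) [3, 1, 3, 1, 2, 1, 2, 1, 2, 3, 2, 1, 3, 2, 3, 2, 1, 2]) = true := by decide +kernel

theorem rot1_18 : T.rot 1 [3, 1, 2, 1, 2, 1, 2, 3, 2, 1, 3, 2, 3, 2, 1, 2, 1, 3] (sel (ones 9216) ip1 18) = true := by decide +kernel

theorem rot1_18r : band (Rule.ok (2 * 3) EX RL ⟨1 :: [3, 1, 2, 1, 2, 1, 2, 3, 2, 1, 3, 2, 3, 2, 1, 2, 1, 3], [4, 0], 3, true⟩) (lall (memL L) [3, 1, 2, 1, 2, 1, 2, 3, 2, 1, 3, 2, 3, 2, 1, 2, 1, 3]) = true := by decide +kernel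

theorem rot1_19 : T.rot 1 [3, 1, 2, 1, 2, 3, 2, 3, 1, 2, 3, 2, 1, 2, 1, 2, 1, 3] (sel (ones 9216) ip1 19) = true := by decide +kernel

theorem rot1_19r : band (Rule.ok (2 * 3) EX RL ⟨1 :: [3, 1, 2, 1, 2, 3, 2, 3, 1, 2, 3, 2, 1, 2, 1, 2, 1, 3], [4], 3, false⟩) (lall (memL L) [3, 1, 2, 1, 2, 3, 2, 3, 1, 2, 3, 2, 1, 2, 1, 2, 1, 3]) = true := by decide +kernel

theorem rot1_20 : T.rot 1 [2, 1, 2, 3, 2, 3, 1, 2, 3, 2, 1, 2, 1, 2, 1, 3, 1, 3] (sel (ones 9216) ip1 20) = true := by decide +kernel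

theorem rot1_20r : band (Rule.ok (2 * 3) EX RL ⟨1 :: [2, 1, 2, 3, 2, 3, 1, 2, 3, 2, 1, 2, 1, 2, 1, 3, 1, 3], [4, 0, 4], 3, false⟩) (lall (memL L) [2, 1, 2, 3, 2, 3, 1, 2, 3, 2, 1, 2, 1, 2, 1, 3, 1, 3]) = true := by decide +kernel

theorem rot1_21 : T.rot 1 [2, 3, 2, 3, 1, 2, 3, 2, 1, 2, 1, 2, 1, 3, 1, 3, 1, 2] (sel (ones 9216) ip1 21) = true := by decide +kernel

theorem rot1_21r : band (Rule.ok (2 * 3) EX RL ⟨1 :: [2, 3, 2, 3, 1, 2, 3, 2, 1, 2, 1, 2, 1, 3, 1, 3, 1, 2], [4, 0, 4, 0, 2], 3, false⟩) (lall (memL L) [2, 3, 2, 3, 1, 2, 3, 2, 1, 2, 1, 2, 1, 3, 1, 3, 1, 2]) = true := by decide +kernel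

theorem rot1_22 : T.rot 1 [2, 3, 2, 1, 2, 1, 2, 1, 3, 1, 3, 1, 2, 1, 2, 3, 2, 3] (sel (ones 9216) ip1 22) = true := by decide +kernel

theorem rot1_22r : band (Rule.ok (2 * 3) EX RL ⟨1 :: [2, 3, 2, 1, 2, 1, 2, 1, 3, 1, 3, 1, 2, 1, 2, 3, 2, 3], [0, 2, 0, 2, 0, 2, 4, 2, 0], 3, false⟩) (lall (memL L) [2, 3, 2, 1, 2, 1, 2, 1, 3, 1, 3, 1, 2, 1, 2, 3, 2, 3]) = true := by decide +kernel

theorem rot1_23 : T.rot 1 [2, 1, 2, 1, 3, 1, 3, 1, 2, 1, 2, 3, 2, 3, 1, 2, 3, 2] (sel (ones 9216) ip1 23) = true := by decide +kernel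

theorem rot1_23r : band (Rule.ok (2 * 3) EX RL ⟨1 :: [2, 1, 2, 1, 3, 1, 3, 1, 2, 1, 2, 3, 2, 3, 1, 2, 3, 2], [0, 2, 0, 2, 0], 3, false⟩) (lall (memL L) [2, 1, 2, 1, 3, 1, 3, 1, 2, 1, 2, 3, 2, 3, 1, 2, 3, 2]) = true := by decide +kernel

theorem rot1_24 : T.rot 1 [2, 1, 3, 1, 3, 1, 2, 1, 2, 3, 2, 3, 1, 2, 3, 2, 1, 2] (sel (ones 9216) ip1 24) = true := by decide +kernel

theorem rot1_24r : band (Rule.ok (2 * 3) EX RL ⟨1 :: [2, 1, 3, 1, 3, 1, 2, 1, 2, 3, 2, 3, 1, 2, 3, 2, 1, 2], [0, 2, 0], 3, false⟩) (lall (memL L) [2, 1, 3, 1, 3, 1, 2, 1, 2, 3, 2, 3, 1, 2, 3, 2, 1, 2]) = true := by decide +kernel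

theorem rot1_25 : T.rot 1 [3, 1, 3, 1, 2, 1, 2, 3, 2, 3, 1, 2, 3, 2, 1, 2, 1, 2] (sel (ones 9216) ip1 25) = true := by decide +kernel

theorem rot1_25r : band (Rule.ok (2 * 3) EX RL ⟨1 :: [3, 1, 3, 1, 2, 1, 2, 3, 2, 3, 1, 2, 3, 2, 1, 2, 1, 2], [0], 3, false⟩) (lall (memL L) [3, 1, 3, 1, 2, 1, 2, 3, 2, 3, 1, 2, 3, 2, 1, 2, 1, 2]) = true := by decide +kernel

theorem cov1 : T.cover 1 [(sel (ones 9216) ip1 1), (sel (ones 9216) ip1 2), (sel (ones 9216) ip1 3), (sel (ones 9216) ip1 4), (sel (ones 9216) ip1 5), (sel (ones 9216) ip1 6), (sel (ones 9216) ip1 7), (sel (ones 9216) ip1 8), (sel (ones 9216) ip1 9), (sel (ones 9216) ip1 10), (sel (ones 9216) ip1 11), (sel (ones 9216) ip1 12), (sel (ones 9216) ip1 13), (sel (ones 9216) ip1 14), (sel (ones 9216) ip1 15), (sel (ones 9216) ip1 16), (sel (ones 9216)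 ip1 17), (sel (ones 9216) ip1 18), (sel (ones 9216) ip1 19), (sel (ones 9216) ip1 20), (sel (ones 9216) ip1 21), (sel (ones 9216) ip1 22), (sel (ones 9216) ip1 23), (sel (ones 9216) ip1 24), (sel (ones 9216) ip1 25)] = true := by decide +kernel

theorem tl1 : T.treeLt 14 1 = true := by decide +kernel

theorem rot2_1 : T.rot 2 [2] (sel (ones 9216) ip2 1) = true := by decide +kernel

theorem rot2_1r : band (Rule.ok (2 * 3) EX RL ⟨2 :: [2], [], 5, false⟩) (lall (memL L) [2]) = true := by decide +kernel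

theorem rot2_2 : T.rot 2 [3, 2, 3, 2, 3, 2, 3] (sel (ones 9216) ip2 2) = true := by decide +kernel

theorem rot2_2r : band (Rule.ok (2 * 3) EX RL ⟨2 :: [3, 2, 3, 2, 3, 2, 3], [], 2, false⟩) (lall (memL L) [3, 2, 3, 2, 3, 2, 3]) = true := by decide +kernel

theorem rot2_3 : T.rot 2 [1, 2, 1, 2, 1, 2, 1, 2, 1, 2, 1] (sel (ones 9216) ip2 3) = true := by decide +kernel

theorem rot2_3r : band (Rule.ok (2 * 3) EX RL ⟨2 :: [1, 2, 1, 2, 1, 2, 1, 2, 1, 2, 1], [], 0, true⟩) (lall (memL L) [1, 2, 1, 2, 1, 2, 1, 2, 1, 2, 1]) = true := by decide +kernel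

theorem rot2_4 : T.rot 2 [1, 2, 3, 1, 2, 1, 3, 1, 2, 1, 2, 3, 1, 2, 1, 3, 1] (sel (ones 9216) ip2 4) = true := by decide +kernel

theorem rot2_4r : band (Rule.ok (2 * 3) EX RL ⟨2 :: [1, 2, 3, 1, 2, 1, 3, 1, 2, 1, 2, 3, 1, 2, 1, 3, 1], [0], 4, true⟩) (lall (memL L) [1, 2, 3, 1, 2, 1, 3, 1, 2, 1, 2, 3, 1, 2, 1, 3, 1]) = true := by decide +kernel

theorem rot2_5 : T.rot 2 [3, 1, 2, 1, 3, 1, 2, 1, 2, 3, 1, 2, 1, 3, 1, 2, 1] (sel (ones 9216) ip2 5) = true := by decide +kernel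

theorem rot2_5r : band (Rule.ok (2 * 3) EX RL ⟨2 :: [3, 1, 2, 1, 3, 1, 2, 1, 2, 3, 1, 2, 1, 3, 1, 2, 1], [0, 2, 0], 4, true⟩) (lall (memL L) [3, 1, 2, 1, 3, 1, 2, 1, 2, 3, 1, 2, 1, 3, 1, 2, 1]) = true := by decide +kernel

theorem rot2_6 : T.rot 2 [1, 3, 1, 2, 1, 2, 3, 1, 2, 1, 3, 1, 2, 1, 2, 3, 1] (sel (ones 9216) ip2 6) = true := by decide +kernel

theorem rot2_6r : band (Rule.ok (2 * 3) EX RL ⟨2 :: [1, 3, 1, 2, 1, 2, 3, 1, 2, 1, 3, 1, 2, 1, 2, 3, 1], [4, 0, 2], 4, true⟩) (lall (memL L) [1, 3, 1, 2, 1, 2, 3, 1, 2, 1, 3, 1, 2, 1, 2, 3, 1]) = true := by decide +kernel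

theorem rot2_7 : T.rot 2 [1, 3, 2, 1, 2, 1, 3, 1, 2, 1, 3, 2, 1, 2, 1, 3, 1] (sel (ones 9216) ip2 7) = true := by decide +kernel

theorem rot2_7r : band (Rule.ok (2 * 3) EX RL ⟨2 :: [1, 3, 2, 1, 2, 1, 3, 1, 2, 1, 3, 2, 1, 2, 1, 3, 1], [4, 0], 4, false⟩) (lall (memL L) [1, 3, 2, 1, 2, 1, 3, 1, 2, 1, 3, 2, 1, 2, 1, 3, 1]) = true := by decide +kernel

theorem rot2_8 : T.rot 2 [1, 2, 1, 3, 1, 2, 1, 3, 2, 1, 2, 1, 3, 1, 2, 1, 3] (sel (ones 9216) ip2 8) = true := by decide +kernel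

theorem rot2_8r : band (Rule.ok (2 * 3) EX RL ⟨2 :: [1, 2, 1, 3, 1, 2, 1, 3, 2, 1, 2, 1, 3, 1, 2, 1, 3], [0, 2, 0, 2], 4, false⟩) (lall (memL L) [1, 2, 1, 3, 1, 2, 1, 3, 2, 1, 2, 1, 3, 1, 2, 1, 3]) = true := by decide +kernel

theorem rot2_9 : T.rot 2 [1, 3, 1, 2, 1, 3, 2, 1, 2, 1, 3, 1, 2, 1, 3, 2, 1] (sel (ones 9216) ip2 9) = true := by decide +kernel

theorem rot2_9r : band (Rule.ok (2 * 3) EX RL ⟨2 :: [1, 3, 1, 2, 1, 3, 2, 1, 2, 1, 3, 1, 2, 1, 3, 2, 1], [0, 2], 4, false⟩) (lall (memL L) [1, 3, 1, 2, 1, 3, 2, 1, 2, 1, 3, 1, 2, 1, 3, 2, 1]) = true := by decide +kernel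

theorem rot2_10 : T.rot 2 [1, 2, 1, 2, 3, 2, 1, 3, 2, 3, 2, 1, 2, 1, 3, 1, 3, 1] (sel (ones 9216) ip2 10) = true := by decide +kernel

theorem rot2_10r : band (Rule.ok (2 * 3) EX RL ⟨2 :: [1, 2, 1, 2, 3, 2, 1, 3, 2, 3, 2, 1, 2, 1, 3, 1, 3, 1], [0], 3, true⟩) (lall (memL L) [1, 2, 1, 2, 3, 2, 1, 3, 2, 3, 2, 1, 2, 1, 3, 1, 3, 1]) = true := by decide +kernel

theorem rot2_11 : T.rot 2 [1, 2, 3, 2, 1, 3, 2, 3, 2, 1, 2, 1, 3, 1, 3, 1, 2, 1] (sel (ones 9216) ip2 11) = true := by decide +kernel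

theorem rot2_11r : band (Rule.ok (2 * 3) EX RL ⟨2 :: [1, 2, 3, 2, 1, 3, 2, 3, 2, 1, 2, 1, 3, 1, 3, 1, 2, 1], [0, 2, 0], 3, true⟩) (lall (memL L) [1, 2, 3, 2, 1, 3, 2, 3, 2, 1, 2, 1, 3, 1, 3, 1, 2, 1]) = true := by decide +kernel

theorem rot2_12 : T.rot 2 [3, 2, 1, 3, 2, 3, 2, 1, 2, 1, 3, 1, 3, 1, 2, 1, 2, 1] (sel (ones 9216) ip2 12) = true := by decide +kernel

theorem rot2_12r : band (Rule.ok (2 * 3) EX RL ⟨2 :: [3, 2, 1, 3, 2, 3, 2, 1, 2, 1, 3, 1, 3, 1, 2, 1, 2, 1], [0, 2, 0, 2, 0], 3, true⟩) (lall (memL L) [3, 2, 1, 3, 2, 3, 2, 1, 2, 1, 3, 1, 3, 1, 2, 1, 2, 1]) = true := by decide +kernel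

theorem rot2_13 : T.rot 2 [1, 3, 2, 3, 2, 1, 2, 1, 3, 1, 3, 1, 2, 1, 2, 1, 2, 3] (sel (ones 9216) ip2 13) = true := by decide +kernel

theorem rot2_13r : band (Rule.ok (2 * 3) EX RL ⟨2 :: [1, 3, 2, 3, 2, 1, 2, 1, 3, 1, 3, 1, 2, 1, 2, 1, 2, 3], [0, 2, 0, 2, 0, 2, 4], 3, true⟩) (lall (memL L) [1, 3, 2, 3, 2, 1, 2, 1, 3, 1, 3, 1, 2, 1, 2, 1, 2, 3]) = true := by decide +kernel

theorem rot2_14 : T.rot 2 [3, 2, 1, 2, 1, 3, 1, 3, 1, 2, 1, 2, 1, 2, 3, 2, 1, 3] (sel (ones 9216) ip2 14) = true := by decide +kernel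

theorem rot2_14r : band (Rule.ok (2 * 3) EX RL ⟨2 :: [3, 2, 1, 2, 1, 3, 1, 3, 1, 2, 1, 2, 1, 2, 3, 2, 1, 3], [4, 0, 4, 0, 2, 0, 2, 4, 2], 3, true⟩) (lall (memL L) [3, 2, 1, 2, 1, 3, 1, 3, 1, 2, 1, 2, 1, 2, 3, 2, 1, 3]) = true := by decide +kernel

theorem rot2_15 : T.rot 2 [1, 2, 1, 3, 1, 3, 1, 2, 1, 2, 1, 2, 3, 2, 1, 3, 2, 3] (sel (ones 9216) ip2 15) = true := by decide +kernel

theorem rot2_15r : band (Rule.ok (2 * 3) EX RL ⟨2 :: [1, 2, 1, 3, 1, 3, 1, 2, 1, 2, 1, 2, 3, 2, 1, 3, 2, 3], [4, 0, 4, 0, 2, 0, 2], 3, true⟩) (lall (memL L) [1, 2, 1, 3, 1, 3, 1, 2, 1, 2, 1, 2, 3, 2, 1, 3, 2, 3]) = true := by decide +kernel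

theorem rot2_16 : T.rot 2 [1, 3, 1, 3, 1, 2, 1, 2, 1, 2, 3, 2, 1, 3, 2, 3, 2, 1] (sel (ones 9216) ip2 16) = true := by decide +kernel

theorem rot2_16r : band (Rule.ok (2 * 3) EX RL ⟨2 :: [1, 3, 1, 3, 1, 2, 1, 2, 1, 2, 3, 2, 1, 3, 2, 3, 2, 1], [4, 0, 4, 0, 2], 3, true⟩) (lall (memL L) [1, 3, 1, 3, 1, 2, 1, 2, 1, 2, 3, 2, 1, 3, 2, 3, 2, 1]) = true := by decide +kernel

theorem rot2_17 : T.rot 2 [1, 2, 3, 2, 3, 1, 2, 3, 2, 1, 2, 1, 2, 1, 3, 1, 3, 1] (sel (ones 9216) ip2 17) = true := by decide +kernel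

theorem rot2_17r : band (Rule.ok (2 * 3) EX RL ⟨2 :: [1, 2, 3, 2, 3, 1, 2, 3, 2, 1, 2, 1, 2, 1, 3, 1, 3, 1], [4, 0, 4, 0], 3, false⟩) (lall (memL L) [1, 2, 3, 2, 3, 1, 2, 3, 2, 1, 2, 1, 2, 1, 3, 1, 3, 1]) = true := by decide +kernel

theorem rot2_18 : T.rot 2 [3, 2, 3, 1, 2, 3, 2, 1, 2, 1, 2, 1, 3, 1, 3, 1, 2, 1] (sel (ones 9216) ip2 18) = true := by decide +kernel

theorem rot2_18r : band (Rule.ok (2 * 3) EX RL ⟨2 :: [3, 2, 3, 1, 2, 3, 2, 1, 2, 1, 2, 1, 3, 1, 3, 1, 2, 1], [4, 0, 4, 0, 2, 0], 3, false⟩) (lall (memL L) [3, 2, 3, 1, 2, 3, 2, 1, 2, 1, 2, 1, 3, 1, 3, 1, 2, 1]) = true := by decide +kernel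

theorem rot2_19 : T.rot 2 [3, 1, 2, 3, 2, 1, 2, 1, 2, 1, 3, 1, 3, 1, 2, 1, 2, 3] (sel (ones 9216) ip2 19) = true := by decide +kernel

theorem rot2_19r : band (Rule.ok (2 * 3) EX RL ⟨2 :: [3, 1, 2, 3, 2, 1, 2, 1, 2, 1, 3, 1, 3, 1, 2, 1, 2, 3], [4, 0, 4, 0, 2, 0, 2, 4], 3, false⟩) (lall (memL L) [3, 1, 2, 3, 2, 1, 2, 1, 2, 1, 3, 1, 3, 1, 2, 1, 2, 3]) = true := by decide +kernel

theorem rot2_20 : T.rot 2 [3, 2, 1, 2, 1, 2, 1, 3, 1, 3, 1, 2, 1, 2, 3, 2, 3, 1] (sel (ones 9216) ip2 20) = true := by decide +kernel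

theorem rot2_20r : band (Rule.ok (2 * 3) EX RL ⟨2 :: [3, 2, 1, 2, 1, 2, 1, 3, 1, 3, 1, 2, 1, 2, 3, 2, 3, 1], [0, 2, 0, 2, 0, 2, 4, 2], 3, false⟩) (lall (memL L) [3, 2, 1, 2, 1, 2, 1, 3, 1, 3, 1, 2, 1, 2, 3, 2, 3, 1]) = true := by decide +kernel

theorem rot2_21 : T.rot 2 [1, 2, 1, 2, 1, 3, 1, 3, 1, 2, 1, 2, 3, 2, 3, 1, 2, 3] (sel (ones 9216) ip2 21) = true := by decide +kernel

theorem rot2_21r : band (Rule.ok (2 * 3) EX RL ⟨2 :: [1, 2, 1, 2, 1, 3, 1, 3, 1, 2, 1, 2, 3, 2, 3, 1, 2, 3], [0, 2, 0, 2, 0, 2], 3, false⟩) (lall (memL L) [1, 2, 1, 2, 1, 3, 1, 3, 1, 2, 1, 2, 3, 2, 3, 1, 2, 3]) = true := by decide +kernel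

theorem rot2_22 : T.rot 2 [1, 2, 1, 3, 1, 3, 1, 2, 1, 2, 3, 2, 3, 1, 2, 3, 2, 1] (sel (ones 9216) ip2 22) = true := by decide +kernel

theorem rot2_22r : band (Rule.ok (2 * 3) EX RL ⟨2 :: [1, 2, 1, 3, 1, 3, 1, 2, 1, 2, 3, 2, 3, 1, 2, 3, 2, 1], [0, 2, 0, 2], 3, false⟩) (lall (memL L) [1, 2, 1, 3, 1, 3, 1, 2, 1, 2, 3, 2, 3, 1, 2, 3, 2, 1]) = true := by decide +kernel

theorem rot2_23 : T.rot 2 [1, 3, 1, 3, 1, 2, 1, 2, 3, 2, 3, 1, 2, 3, 2, 1, 2, 1] (sel (ones 9216) ip2 23) = true := by decide +kernel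

theorem rot2_23r : band (Rule.ok (2 * 3) EX RL ⟨2 :: [1, 3, 1, 3, 1, 2, 1, 2, 3, 2, 3, 1, 2, 3, 2, 1, 2, 1], [0, 2], 3, false⟩) (lall (memL L) [1, 3, 1, 3, 1, 2, 1, 2, 3, 2, 3, 1, 2, 3, 2, 1, 2, 1]) = true := by decide +kernel

theorem cov2 : T.cover 2 [(sel (ones 9216) ip2 1), (sel (ones 9216) ip2 2), (sel (ones 9216) ip2 3), (sel (ones 9216) ip2 4), (sel (ones 9216) ip2 5), (sel (ones 9216) ip2 6), (sel (ones 9216) ip2 7), (sel (ones 9216) ip2 8), (sel (ones 9216) ip2 9), (sel (ones 9216) ip2 10), (sel (ones 9216) ip2 11), (sel (ones 9216) ip2 12), (sel (ones 9216) ip2 13), (sel (ones 9216) ip2 14), (sel (ones 9216) ip2 15), (sel (ones 9216) ip2 16), (sel (ones 9216) ip2 17), (sel (ones 9216) ip2 18), (sel (ones 9216) ip2 19), (sel (ones 9216) ip2 20), (sel (ones 9216) ip2 21), (sel (ones 9216) ip2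 22), (sel (ones 9216) ip2 23)] = true := by decide +kernel

theorem tl2 : T.treeLt 14 2 = true := by decide +kernel

theorem rot3_1 : T.rot 3 [3] (sel (ones 9216) ip3 1) = true := by decide +kernel

theorem rot3_1r : band (Rule.ok (2 * 3) EX RL ⟨3 :: [3], [], 5, false⟩) (lall (memL L) [3]) = true := by decide +kernel

theorem rot3_2 : T.rot 3 [2, 3, 2, 3, 2, 3, 2] (sel (ones 9216) ip3 2) = true := by decide +kernel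

theorem rot3_2r : band (Rule.ok (2 * 3) EX RL ⟨3 :: [2, 3, 2, 3, 2, 3, 2], [], 2, true⟩) (lall (memL L) [2, 3, 2, 3, 2, 3, 2]) = true := by decide +kernel

theorem rot3_3 : T.rot 3 [1, 3, 1, 3, 1, 3, 1, 3, 1, 3, 1] (sel (ones 9216) ip3 3) = true := by decide +kernel

theorem rot3_3r : band (Rule.ok (2 * 3) EX RL ⟨3 :: [1, 3, 1, 3, 1, 3, 1, 3, 1, 3, 1], [], 1, true⟩) (lall (memL L) [1, 3, 1, 3, 1, 3, 1, 3, 1, 3, 1]) = true := by decide +kernel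

theorem rot3_4 : T.rot 3 [1, 2, 1, 3, 1, 2, 1, 2, 3, 1, 2, 1, 3, 1, 2, 1, 2] (sel (ones 9216) ip3 4) = true := by decide +kernel

theorem rot3_4r : band (Rule.ok (2 * 3) EX RL ⟨3 :: [1, 2, 1, 3, 1, 2, 1, 2, 3, 1, 2, 1, 3, 1, 2, 1, 2], [0, 2, 0, 2], 4, true⟩) (lall (memL L) [1, 2, 1, 3, 1, 2, 1, 2, 3, 1, 2, 1, 3, 1, 2, 1, 2]) = true := by decide +kernel

theorem rot3_5 : T.rot 3 [1, 2, 1, 2, 3, 1, 2, 1, 3, 1, 2, 1, 2, 3, 1, 2, 1] (sel (ones 9216) ip3 5) = true := by decide +kernel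

theorem rot3_5r : band (Rule.ok (2 * 3) EX RL ⟨3 :: [1, 2, 1, 2, 3, 1, 2, 1, 3, 1, 2, 1, 2, 3, 1, 2, 1], [4], 4, true⟩) (lall (memL L) [1, 2, 1, 2, 3, 1, 2, 1, 3, 1, 2, 1, 2, 3, 1, 2, 1]) = true := by decide +kernel

theorem rot3_6 : T.rot 3 [1, 2, 1, 3, 2, 1, 2, 1, 3, 1, 2, 1, 3, 2, 1, 2, 1] (sel (ones 9216) ip3 6) = true := by decide +kernel

theorem rot3_6r : band (Rule.ok (2 * 3) EX RL ⟨3 :: [1, 2, 1, 3, 2, 1, 2, 1, 3, 1, 2, 1, 3, 2, 1, 2, 1], [], 4, false⟩) (lall (memL L) [1, 2, 1, 3, 2, 1, 2, 1, 3, 1, 2, 1, 3, 2, 1, 2, 1]) = true := by decide +kernel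

theorem rot3_7 : T.rot 3 [2, 1, 2, 1, 3, 1, 2, 1, 3, 2, 1, 2, 1, 3, 1, 2, 1] (sel (ones 9216) ip3 7) = true := by decide +kernel

theorem rot3_7r : band (Rule.ok (2 * 3) EX RL ⟨3 :: [2, 1, 2, 1, 3, 1, 2, 1, 3, 2, 1, 2, 1, 3, 1, 2, 1], [4, 0, 2, 0], 4, false⟩) (lall (memL L) [2, 1, 2, 1, 3, 1, 2, 1, 3, 2, 1, 2, 1, 3, 1, 2, 1]) = true := by decide +kernel

theorem rot3_8 : T.rot 3 [2, 1, 3, 2, 3, 2, 1, 2, 1, 3, 1, 3, 1, 2, 1, 2, 1, 2] (sel (ones 9216) ip3 8) = true := by decide +kernel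

theorem rot3_8r : band (Rule.ok (2 * 3) EX RL ⟨3 :: [2, 1, 3, 2, 3, 2, 1, 2, 1, 3, 1, 3, 1, 2, 1, 2, 1, 2], [0, 2, 0, 2, 0, 2], 3, true⟩) (lall (memL L) [2, 1, 3, 2, 3, 2, 1, 2, 1, 3, 1, 3, 1, 2, 1, 2, 1, 2]) = true := by decide +kernel

theorem rot3_9 : T.rot 3 [2, 3, 2, 1, 2, 1, 3, 1, 3, 1, 2, 1, 2, 1, 2, 3, 2, 1] (sel (ones 9216) ip3 9) = true := by decide +kernel

theorem rot3_9r : band (Rule.ok (2 * 3) EX RL ⟨3 :: [2, 3, 2, 1, 2, 1, 3, 1, 3, 1, 2, 1, 2, 1, 2, 3, 2, 1], [0, 2, 0, 2, 0, 2, 4, 2, 0], 3, true⟩) (lall (memL L) [2, 3, 2, 1, 2, 1, 3, 1, 3, 1, 2, 1, 2, 1, 2, 3, 2, 1]) = true := by decide +kernel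

theorem rot3_10 : T.rot 3 [2, 1, 2, 1, 3, 1, 3, 1, 2, 1, 2, 1, 2, 3, 2, 1, 3, 2] (sel (ones 9216) ip3 10) = true := by decide +kernel

theorem rot3_10r : band (Rule.ok (2 * 3) EX RL ⟨3 :: [2, 1, 2, 1, 3, 1, 3, 1, 2, 1, 2, 1, 2, 3, 2, 1, 3, 2], [4, 0, 4, 0, 2, 0, 2, 4], 3, true⟩) (lall (memL L) [2, 1, 2, 1, 3, 1, 3, 1, 2, 1, 2, 1, 2, 3, 2, 1, 3, 2]) = true := by decide +kernel

theorem rot3_11 : T.rot 3 [1, 3, 1, 2, 1, 2, 1, 2, 3, 2, 1, 3, 2, 3, 2, 1, 2, 1] (sel (ones 9216) ip3 11) = true := by decide +kernel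

theorem rot3_11r : band (Rule.ok (2 * 3) EX RL ⟨3 :: [1, 3, 1, 2, 1, 2, 1, 2, 3, 2, 1, 3, 2, 3, 2, 1, 2, 1], [4, 0, 4], 3, true⟩) (lall (memL L) [1, 3, 1, 2, 1, 2, 1, 2, 3, 2, 1, 3, 2, 3, 2, 1, 2, 1]) = true := by decide +kernel

theorem rot3_12 : T.rot 3 [1, 2, 1, 2, 1, 2, 3, 2, 1, 3, 2, 3, 2, 1, 2, 1, 3, 1] (sel (ones 9216) ip3 12) = true := by decide +kernel

theorem rot3_12r : band (Rule.ok (2 * 3) EX RL ⟨3 :: [1, 2, 1, 2, 1, 2, 3, 2, 1, 3, 2, 3, 2, 1, 2, 1, 3, 1], [4], 3, true⟩) (lall (memL L) [1, 2, 1, 2, 1, 2, 3, 2, 1, 3, 2, 3, 2, 1, 2, 1, 3, 1]) = true := by decide +kernel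

theorem rot3_13 : T.rot 3 [1, 3, 1, 2, 1, 2, 3, 2, 3, 1, 2, 3, 2, 1, 2, 1, 2, 1] (sel (ones 9216) ip3 13) = true := by decide +kernel

theorem rot3_13r : band (Rule.ok (2 * 3) EX RL ⟨3 :: [1, 3, 1, 2, 1, 2, 3, 2, 3, 1, 2, 3, 2, 1, 2, 1, 2, 1], [], 3, false⟩) (lall (memL L) [1, 3, 1, 2, 1, 2, 3, 2, 3, 1, 2, 3, 2, 1, 2, 1, 2, 1]) = true := by decide +kernel

theorem rot3_14 : T.rot 3 [1, 2, 1, 2, 3, 2, 3, 1, 2, 3, 2, 1, 2, 1, 2, 1, 3, 1] (sel (ones 9216) ip3 14) = true := by decide +kernel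

theorem rot3_14r : band (Rule.ok (2 * 3) EX RL ⟨3 :: [1, 2, 1, 2, 3, 2, 3, 1, 2, 3, 2, 1, 2, 1, 2, 1, 3, 1], [4, 0], 3, false⟩) (lall (memL L) [1, 2, 1, 2, 3, 2, 3, 1, 2, 3, 2, 1, 2, 1, 2, 1, 3, 1]) = true := by decide +kernel

theorem rot3_15 : T.rot 3 [2, 3, 1, 2, 3, 2, 1, 2, 1, 2, 1, 3, 1, 3, 1, 2, 1, 2] (sel (ones 9216) ip3 15) = true := by decide +kernel

theorem rot3_15r : band (Rule.ok (2 * 3) EX RL ⟨3 :: [2, 3, 1, 2, 3, 2, 1, 2, 1, 2, 1, 3, 1, 3, 1, 2, 1, 2], [4, 0, 4, 0, 2, 0, 2], 3, false⟩) (lall (memL L) [2, 3, 1, 2, 3, 2, 1, 2, 1, 2, 1, 3, 1, 3, 1, 2, 1, 2]) = true := by decide +kernel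

theorem rot3_16 : T.rot 3 [1, 2, 3, 2, 1, 2, 1, 2, 1, 3, 1, 3, 1, 2, 1, 2, 3, 2] (sel (ones 9216) ip3 16) = true := by decide +kernel

theorem rot3_16r : band (Rule.ok (2 * 3) EX RL ⟨3 :: [1, 2, 3, 2, 1, 2, 1, 2, 1, 3, 1, 3, 1, 2, 1, 2, 3, 2], [4, 0, 4, 0, 2, 0, 2, 4, 2], 3, false⟩) (lall (memL L) [1, 2, 3, 2, 1, 2, 1, 2, 1, 3, 1, 3, 1, 2, 1, 2, 3, 2]) = true := by decide +kernel

theorem rot3_17 : T.rot 3 [2, 1, 2, 1, 2, 1, 3, 1, 3, 1, 2, 1, 2, 3, 2, 3, 1, 2] (sel (ones 9216) ip3 17) = true := by decide +kernel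

theorem rot3_17r : band (Rule.ok (2 * 3) EX RL ⟨3 :: [2, 1, 2, 1, 2, 1, 3, 1, 3, 1, 2, 1, 2, 3, 2, 3, 1, 2], [0, 2, 0, 2, 0, 2, 4], 3, false⟩) (lall (memL L) [2, 1, 2, 1, 2, 1, 3, 1, 3, 1, 2, 1, 2, 3, 2, 3, 1, 2]) = true := by decide +kernel

theorem cov3 : T.cover 3 [(sel (ones 9216) ip3 1), (sel (ones 9216) ip3 2), (sel (ones 9216) ip3 3), (sel (ones 9216) ip3 4), (sel (ones 9216) ip3 5), (sel (ones 9216) ip3 6), (sel (ones 9216) ip3 7), (sel (ones 9216) ip3 8), (sel (ones 9216) ip3 9), (sel (ones 9216) ip3 10), (sel (ones 9216) ip3 11), (sel (ones 9216) ip3 12), (sel (ones 9216) ip3 13), (sel (ones 9216) ip3 14), (sel (ones 9216) ip3 15), (sel (ones 9216) ip3 16), (sel (ones 9216) ip3 17)] = true := by decide +kernel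

theorem tl3 : T.treeLt 14 3 = true := by decide +kernel

end Cfsg.Agent.Spor.C3N
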